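import Groth.Agent.ModSiteLib.FreeGen
import Groth.Agent.ModSiteLib.ExtZero
import Groth.Prelude.Def_AlgSpPerf
import Mathlib.Algebra.Homology.DerivedCategory.HomologySequence
import Mathlib.Algebra.Homology.HomotopyCategory.MappingCone

/-!
# Local null homotopies of maps out of strictly perfect complexes on a ringed site
-/

set_option autoImplicit false
set_option linter.style.haveILetI false
set_option backward.isDefEq.respectTransparency false

universe u v

open CategoryTheory Limits Opposite
open _root_.ModSiteLib Groth.Agent.ModSiteLib Groth.Agent.ModSiteLib.SetPull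
open CochainComplex CochainComplex.HomComplex

namespace Groth.Agent.SitePerfLiftLib

/-- A homotopy from `α ≫ inr f` to zero gives a lift of `α` through `f` up to homotopy. -/
theorem exists_lift_of_null {C : Type*} [Category C] [Preadditive C] [HasBinaryBiproducts C]
    {E F G : CochainComplex C ℤ} (α : E ⟶ F) (f : G ⟶ F)
    (H : Homotopy (α ≫ mappingCone.inr f) 0) :
    ∃ β : E ⟶ G, Nonempty (Homotopy (β ≫ f) α) := by
  obtain ⟨z, hz⟩ := Cochain.equivHomotopy _ _ H
  simp only [Cochain.ofHom_zero, add_zero] at hz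
  let a : Cochain E G 0 := z.comp (mappingCone.fst f).1 (neg_add_cancel 1)
  let b : Cochain E F (-1) := z.comp (mappingCone.snd f) (add_zero (-1))
  have hzab : mappingCone.liftCochain f a b (neg_add_cancel 1) = z := by
    simp [mappingCone.ext_cochain_to_iff f _ _ (neg_add_cancel 1), a, b]
  rw [← hzab, mappingCone.δ_liftCochain f a b (neg_add_cancel 1) 1 (zero_add 1)] at hz
  have h1 := congrArg (fun c => c.comp (mappingCone.fst f).1 (zero_add 1)) hz
  have h2 := congrArg (fun c => c.comp (mappingCone.snd f) (add_zero 0)) hz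
  simp at h1 h2
  let β : E ⟶ G := Cocycle.homOf (Cocycle.mk a 1 (zero_add 1) h1)
  refine ⟨β, ⟨(Cochain.equivHomotopy _ _).symm ⟨-b, ?_⟩⟩⟩
  rw [Cochain.ofHom_comp, δ_neg, h2]
  simp [β]

/-- The cone of a map which is iso above `a` and epi at `a` is exact in degrees `≥ a`. -/
theorem exactAt_cone {A : Type u} [Category.{v} A] [Abelian A] {F G : CochainComplex A ℤ} (f : G ⟶ F) (a : ℤ)
    (hf : ∀ j : ℤ, a < j → IsIso (HomologicalComplex.homologyMap f j))
    (hfa : Epi (HomologicalComplex.homologyMap f a)) (i : ℤ) (hi : a ≤ i) :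
    (mappingCone f).ExactAt i := by
  letI := HasDerivedCategory.standard A
  let T := DerivedCategory.Q.mapTriangle.obj (mappingCone.triangle f)
  have hT : T ∈ Pretriangulated.distinguishedTriangles := DerivedCategory.mappingCone_triangle_distinguished f
  have nat : ∀ j, (DerivedCategory.homologyFunctor A j).map (DerivedCategory.Q.map f) =
      (DerivedCategory.homologyFunctorFactors A j).hom.app G ≫
        (HomologicalComplex.homologyFunctor A (ComplexShape.up ℤ) j).map f ≫
        (DerivedCategory.homologyFunctorFactors A j).inv.app F := fun j => by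
    have h := (DerivedCategory.homologyFunctorFactors A j).hom.naturality f
    dsimp at h
    rw [← reassoc_of% h, Iso.hom_inv_id_app]
    exact (Category.comp_id _).symm
  have hepi : Epi ((DerivedCategory.homologyFunctor A i).map T.mor₁) := by
    have : Epi ((HomologicalComplex.homologyFunctor A (ComplexShape.up ℤ) i).map f) := by
      rcases hi.eq_or_lt with rfl | h
      · exact hfa
      · have := hf i h
        exact inferInstanceAs (Epi (HomologicalComplex.homologyMap f i))
    change Epi ((DerivedCategory.homologyFunctor A i).map (DerivedCategory.Q.map f))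
    rw [nat]
    infer_instance
  have hmono : Mono ((DerivedCategory.homologyFunctor A (i + 1)).map T.mor₁) := by
    have : IsIso ((HomologicalComplex.homologyFunctor A (ComplexShape.up ℤ) (i + 1)).map f) := hf (i + 1) (by omega)
    change Mono ((DerivedCategory.homologyFunctor A (i + 1)).map (DerivedCategory.Q.map f))
    rw [nat]
    infer_instance
  have hz : IsZero ((DerivedCategory.homologyFunctor A i).obj T.obj₃) :=
    (DerivedCategory.HomologySequence.exact₃ T hT i (i + 1) rfl).isZero_X₂
      ((DerivedCategory.HomologySequence.epi_homologyMap_mor₁_iff T hT i).mp hepi)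
      ((DerivedCategory.HomologySequence.mono_homologyMap_mor₁_iff T hT i (i + 1) rfl).mp hmono)
  rw [HomologicalComplex.exactAt_iff_isZero_homology]
  exact hz.of_iso ((DerivedCategory.homologyFunctorFactors A i).app (mappingCone f)).symm

noncomputable section

variable {C : Type u} [SmallCategory C] {J : GrothendieckTopology C} {O : Sheaf J CommRingCat.{u}}

/-- The restriction of maps of restricted modules along an arrow. -/
def ρ {W W' : C} (g : W' ⟶ W) {A B : ModSite.Mod O}
    (x : (ModSite.restr O W).obj A ⟶ (ModSite.restr O W).obj B) :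
    (ModSite.restr O W').obj A ⟶ (ModSite.restr O W').obj B :=
  (SheafOfModules.overFunctorMap (ModSite.ringSh O) g).inv.app A ≫
    (SheafOfModules.overMap (ModSite.ringSh O) g).map x ≫
    (SheafOfModules.overFunctorMap (ModSite.ringSh O) g).hom.app B

theorem ρ_map {W W' : C} (g : W' ⟶ W) {A B : ModSite.Mod O} (φ : A ⟶ B) :
    ρ g ((ModSite.restr O W).map φ) = (ModSite.restr O W').map φ := by
  refine (congrArg (_ ≫ ·) ((SheafOfModules.overFunctorMap (ModSite.ringSh O) g).hom.naturality φ)).trans ?_
  exact Iso.inv_hom_id_app_assoc _ _ _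

theorem ρ_comp {W W' : C} (g : W' ⟶ W) {A B D : ModSite.Mod O}
    (x : (ModSite.restr O W).obj A ⟶ (ModSite.restr O W).obj B)
    (y : (ModSite.restr O W).obj B ⟶ (ModSite.restr O W).obj D) : ρ g (x ≫ y) = ρ g x ≫ ρ g y := by
  simp [ρ]

theorem ρ_add {W W' : C} (g : W' ⟶ W) {A B : ModSite.Mod O}
    (x y : (ModSite.restr O W).obj A ⟶ (ModSite.restr O W).obj B) : ρ g (x + y) = ρ g x + ρ g y := by
  have : (SheafOfModules.overMap (ModSite.ringSh O) g).map (x + y) =
    (SheafOfModules.overMap (ModSite.ringSh O) g).map x + (SheafOfModules.overMap (ModSite.ringSh O) g).map y := rfl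
  simp only [ρ, this, Preadditive.add_comp, Preadditive.comp_add]

/-- The terminal object of the localised site. -/
abbrev top (W : C) : Over W := Over.mk (𝟙 W)

/-- The section classifying a map out of the restricted structure sheaf. -/
def ev {W : C} {M : ModSite.Mod O} (x : (ModSite.restr O W).obj (ModSite.unit O) ⟶ (ModSite.restr O W).obj M) :
    Sec M W :=
  x.val.app (op (top W)) (1 : (ModSite.ringSh O).obj.obj (op W))

theorem ev_bijective (W : C) (M : ModSite.Mod O) :
    Function.Bijective (ev (W := W) (M := M)) := by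
  let M' : ModSite.Mod (O.over W) := (ModSite.restr O W).obj M
  have : (ev (W := W) (M := M)) = fun x => termSectionsEquiv (Over.mkIdTerminal (X := W)) M'
      (M'.unitHomEquiv x) := rfl
  rw [this]
  exact (Equiv.trans M'.unitHomEquiv (termSectionsEquiv (Over.mkIdTerminal (X := W)) M')).bijective

theorem ev_map {W : C} {M N : ModSite.Mod O}
    (x : (ModSite.restr O W).obj (ModSite.unit O) ⟶ (ModSite.restr O W).obj M) (φ : M ⟶ N) :
    ev (x ≫ (ModSite.restr O W).map φ) = ap φ W (ev x) := rfl

theorem ev_zero (W : C) (M : ModSite.Mod O) :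
    ev (0 : (ModSite.restr O W).obj (ModSite.unit O) ⟶ (ModSite.restr O W).obj M) = 0 := rfl

theorem ev_ρ {W W' : C} (g : W' ⟶ W) {M : ModSite.Mod O}
    (x : (ModSite.restr O W).obj (ModSite.unit O) ⟶ (ModSite.restr O W).obj M) :
    ev (ρ g x) = res ((jP O).obj M) g.op (ev x) := by
  let k : (Over.map g).obj (top W') ⟶ top W := Over.homMk g (by simp)
  have h := app_res ((jP (O.over W)).map x) k.op (1 : (ModSite.ringSh O).obj.obj (op W))
  refine Eq.trans ?_ h
  exact congrArg (x.val.app (op ((Over.map g).obj (top W')))) (map_one ((ModSite.ringSh O).obj.map g.op).hom).symm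

/-- Sections killed by the second map of an exact sequence are locally in the image of the first. -/
theorem loc_preimage_of_exact {S : ShortComplex (ModSite.Mod O)} (hS : S.Exact) {V : C} (z : Sec S.X₂ V)
    (hz : ap S.g V z = 0) :
    Loc J V fun V' g => ∃ y, ap S.f V' y = res ((jP O).obj S.X₂) g.op z := by
  haveI : Epi (kernel.lift S.g S.f S.zero) := (ShortComplex.exact_iff_epi_kernel_lift _).mp hS
  obtain ⟨k, hk⟩ := exists_kernel_section S.g V z hz
  refine (loc_of_epi (kernel.lift S.g S.f S.zero) k).mono fun V' g ⟨y, hy⟩ => ⟨y, ?_⟩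
  refine (congrArg (fun ψ => ap ψ V' y) (kernel.lift_ι S.g S.f S.zero)).symm.trans ?_
  refine (congrArg (ap (kernel.ι S.g) V') hy).trans ?_
  refine (app_res ((jP O).map (kernel.ι S.g)) g.op k).trans ?_
  exact congrArg _ hk

/-- A summand of a finite free module is finitely projective. -/
theorem exists_coords {E : ModSite.Mod O} (hE : DCoh.IsFinFreeSummandMod (ModSite.ringSh O) E) :
    ∃ (n : ℕ) (a : Fin n → (E ⟶ ModSite.unit O)) (b : Fin n → (ModSite.unit O ⟶ E)),
      ∑ k, a k ≫ b k = 𝟙 E := by
  classical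
  obtain ⟨n, i, p, hip⟩ := hE
  let ι : ULift.{u} (Fin n) → (ModSite.unit O ⟶ SheafOfModules.free (R := ModSite.ringSh O) (ULift.{u} (Fin n))) :=
    fun k => SheafOfModules.ιFree k
  let π : ULift.{u} (Fin n) → (SheafOfModules.free (R := ModSite.ringSh O) (ULift.{u} (Fin n)) ⟶ ModSite.unit O) :=
    fun k => Sigma.desc fun j => if j = k then 𝟙 _ else 0
  have hπ : ∑ k, π k ≫ ι k = 𝟙 _ := by
    refine Sigma.hom_ext _ _ fun j => ?_
    show SheafOfModules.ιFree j ≫ (∑ k, π k ≫ ι k) = SheafOfModules.ιFree j ≫ 𝟙 _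
    have hιπ : ∀ k, SheafOfModules.ιFree j ≫ π k = if j = k then 𝟙 _ else 0 := fun k => Sigma.ι_desc _ _
    rw [Preadditive.comp_sum, Category.comp_id, Finset.sum_eq_single j]
    · rw [← Category.assoc, hιπ, if_pos rfl, Category.id_comp]
    · intro k _ hk
      rw [← Category.assoc, hιπ, if_neg (Ne.symm hk), zero_comp]
    · simp
  refine ⟨n, fun k => i ≫ π ⟨k⟩, fun k => ι ⟨k⟩ ≫ p, ?_⟩
  rw [← hip, show i ≫ p = i ≫ (∑ k, π k ≫ ι k) ≫ p by rw [hπ, Category.id_comp],
    Preadditive.sum_comp, Preadditive.comp_sum, ← Equiv.ulift.{u}.symm.sum_comp]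
  simp

/-- Maps out of a summand of a finite free module killed by an exact sequence lift locally. -/
theorem loc_lift {S : ShortComplex (ModSite.Mod O)} (hS : S.Exact) {E : ModSite.Mod O}
    (hE : DCoh.IsFinFreeSummandMod (ModSite.ringSh O) E) {W : C}
    (ψ : (ModSite.restr O W).obj E ⟶ (ModSite.restr O W).obj S.X₂) (hψ : ψ ≫ (ModSite.restr O W).map S.g = 0) :
    Loc J W fun W' g => ∃ h : (ModSite.restr O W').obj E ⟶ (ModSite.restr O W').obj S.X₁,
      h ≫ (ModSite.restr O W').map S.f = ρ g ψ := by
  obtain ⟨n, a, b, hab⟩ := exists_coords hE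
  let ξ : Fin n → ((ModSite.restr O W).obj (ModSite.unit O) ⟶ (ModSite.restr O W).obj S.X₂) :=
    fun k => (ModSite.restr O W).map (b k) ≫ ψ
  refine (Loc.forall_finset Finset.univ (fun k _ => loc_preimage_of_exact hS (ev (ξ k)) (by
    rw [← ev_map, Category.assoc, hψ, comp_zero, ev_zero]))).mono fun W' g hg => ?_
  choose y hy using fun k => hg k (Finset.mem_univ k)
  choose η hη using fun k => (ev_bijective W' S.X₁).2 (y k)
  refine ⟨∑ k, (ModSite.restr O W').map (a k) ≫ η k, ?_⟩
  have hξ : ∀ k, η k ≫ (ModSite.restr O W').map S.f = (ModSite.restr O W').map (b k) ≫ ρ g ψ := fun k => by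
    apply (ev_bijective W' S.X₂).1
    rw [ev_map, hη, hy, ← ev_ρ, ρ_comp, ρ_map]
  simp only [Preadditive.sum_comp, Category.assoc, hξ]
  simp only [← Category.assoc, ← Functor.map_comp]
  rw [← Preadditive.sum_comp, ← Functor.map_sum, hab, CategoryTheory.Functor.map_id, Category.id_comp]

/-- Local lifting through epimorphisms. -/
theorem loc_lift_epi (E F G : ModSite.Mod O) (hE : DCoh.IsFinFreeSummandMod (ModSite.ringSh O) E)
    (p : G ⟶ F) [Epi p] (φ : E ⟶ F) (V : C) :
    Loc J V fun W _ => ∃ l : (ModSite.restr O W).obj E ⟶ (ModSite.restr O W).obj G,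
      l ≫ (ModSite.restr O W).map p = (ModSite.restr O W).map φ := by
  have hS : (ShortComplex.mk p (0 : F ⟶ F) comp_zero).Exact :=
    (ShortComplex.exact_iff_epi _ rfl).2 ‹_›
  refine (loc_lift hS hE ((ModSite.restr O V).map φ) (by rw [Functor.map_zero, comp_zero])).mono
    fun W g ⟨l, hl⟩ => ⟨l, hl.trans (ρ_map g φ)⟩

variable {E K : CochainComplex (ModSite.Mod O) ℤ}

/-- Maps from a strictly perfect complex to a complex exact in high degrees are locally null homotopic. -/
theorem loc_null (φ : E ⟶ K) (hE : DCoh.IsStrictlyPerfectMod (ModSite.ringSh O) E) (a : ℤ)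
    (hEa : ∀ j, j < a → IsZero (E.X j)) (hK : ∀ j, a ≤ j → K.ExactAt j) (V : C) :
    Loc J V fun W _ => Nonempty (Homotopy
      (((ModSite.restr O W).mapHomologicalComplex (ComplexShape.up ℤ)).map φ) 0) := by
  classical
  obtain ⟨⟨a₀, b, hb⟩, hfree⟩ := hE
  have main : ∀ n : ℕ, b - n + 1 ≥ a → Loc J V fun W _ =>
      ∃ h : ∀ i j : ℤ, (ModSite.restr O W).obj (E.X i) ⟶ (ModSite.restr O W).obj (K.X j),
        ∀ i, b - n < i → (ModSite.restr O W).map (φ.f i) =
          (ModSite.restr O W).map (E.d i (i + 1)) ≫ h (i + 1) i +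
            h i (i - 1) ≫ (ModSite.restr O W).map (K.d (i - 1) i) := by
    intro n
    induction n with
    | zero =>
      intro _
      exact Loc.of_forall fun W g => ⟨fun _ _ => 0, fun i hi =>
        ((ModSite.restr O W).map_isZero (hb i (Or.inr (by simpa using hi)))).eq_of_src _ _⟩
    | succ n ih =>
      intro hn
      refine (ih (by omega)).bind fun W g ⟨h, hh⟩ => ?_
      set i₀ : ℤ := b - n with hi₀
      let ψ := (ModSite.restr O W).map (φ.f i₀) - (ModSite.restr O W).map (E.d i₀ (i₀ + 1)) ≫ h (i₀ + 1) i₀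
      have hS : (K.sc' (i₀ - 1) i₀ (i₀ + 1)).Exact :=
        (K.exactAt_iff' (i₀ - 1) i₀ (i₀ + 1) (by simp) (by simp)).1 (hK i₀ (by omega))
      have e1 := hh (i₀ + 1) (by omega)
      rw [show i₀ + 1 - 1 = i₀ by omega] at e1
      have hψ : ψ ≫ (ModSite.restr O W).map (K.d i₀ (i₀ + 1)) = 0 := by
        simp only [ψ, Preadditive.sub_comp, Category.assoc, ← Functor.map_comp, HomologicalComplex.Hom.comm]
        rw [Functor.map_comp, e1, Preadditive.comp_add, ← Category.assoc, ← Functor.map_comp,
          HomologicalComplex.d_comp_d]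
        simp
      refine (loc_lift (S := ShortComplex.mk (K.d (i₀ - 1) i₀) (K.d i₀ (i₀ + 1)) (K.d_comp_d _ _ _)) hS (hfree i₀) ψ hψ).mono fun W' g' ⟨l, hl⟩ => ?_
      refine ⟨fun i j => if e : i = i₀ ∧ j = i₀ - 1 then
          (ModSite.restr O W').map (E.XIsoOfEq e.1).hom ≫ l ≫
            (ModSite.restr O W').map (K.XIsoOfEq e.2.symm).hom
        else ρ g' (h i j), fun i hi => ?_⟩
      have e2 : ¬ (i + 1 = i₀ ∧ i = i₀ - 1) := fun e => by push_cast at hi; omega
      beta_reduce
      rw [dif_neg e2]
      by_cases hii : i = i₀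
      · subst hii
        rw [dif_pos ⟨rfl, rfl⟩]
        simp only [HomologicalComplex.XIsoOfEq_rfl, Iso.refl_hom, CategoryTheory.Functor.map_id,
          Category.id_comp, Category.comp_id]
        rw [hl]
        simp only [← ρ_map g' (E.d i₀ (i₀ + 1)), ← ρ_map g' (φ.f i₀), ← ρ_comp, ← ρ_add, ψ, add_sub_cancel]
      · rw [dif_neg (fun e => hii e.1)]
        have := congrArg (ρ g') (hh i (by push_cast at hi; omega))
        rwa [ρ_map, ρ_add, ρ_comp, ρ_comp, ρ_map, ρ_map] at this
  obtain ⟨n, hn⟩ : ∃ n : ℕ, b - n + 1 ≥ a ∧ b - n + 1 ≤ a ∨ (n = 0 ∧ b + 1 ≤ a) := by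
    by_cases h : a ≤ b + 1
    · exact ⟨(b + 1 - a).toNat, Or.inl (by omega)⟩
    · exact ⟨0, Or.inr (by omega)⟩
  have hzero : ∀ W, ∀ i, ¬ b - n < i ∨ i < a → IsZero ((ModSite.restr O W).obj (E.X i)) := fun W i hi =>
    (ModSite.restr O W).map_isZero (hEa i (by omega))
  by_cases hn' : b - (n : ℤ) + 1 ≥ a
  · refine (main n hn').mono fun W g ⟨h, hh⟩ => ⟨?_⟩
    refine ⟨fun i j => if (ComplexShape.up ℤ).Rel j i then h i j else 0, fun i j hij => if_neg hij, fun i => ?_⟩
    rw [HomologicalComplex.zero_f, add_zero, dNext_eq _ (show (ComplexShape.up ℤ).Rel i (i + 1) by simp),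
      prevD_eq _ (show (ComplexShape.up ℤ).Rel (i - 1) i by simp)]
    simp only [Functor.mapHomologicalComplex_obj_d, Functor.mapHomologicalComplex_map_f,
      ComplexShape.up_Rel, sub_add_cancel, if_true]
    by_cases hi : b - n < i
    · exact hh i hi
    · exact (hzero W i (Or.inl hi)).eq_of_src _ _
  · refine Loc.of_forall fun W g => ⟨Homotopy.ofEq (HomologicalComplex.hom_ext _ _ fun i => ?_)⟩
    refine IsZero.eq_of_src ?_ _ _
    show IsZero ((ModSite.restr O W).obj (E.X i))
    by_cases hi : i < a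
    · exact hzero W i (Or.inr hi)
    · exact (ModSite.restr O W).map_isZero (hb i (Or.inr (by omega)))

/-- Local lifting up to homotopy. -/
theorem loc_lift_homotopy {E F G : CochainComplex (ModSite.Mod O) ℤ} (α : E ⟶ F) (f : G ⟶ F)
    (hE : DCoh.IsStrictlyPerfectMod (ModSite.ringSh O) E) (a : ℤ)
    (hEa : ∀ j : ℤ, j < a → IsZero (E.X j))
    (hK : ∀ j, a ≤ j → (mappingCone f).ExactAt j) (V : C) :
    Loc J V fun W _ => ∃ β : ((ModSite.restr O W).mapHomologicalComplex (ComplexShape.up ℤ)).obj E ⟶
          ((ModSite.restr O W).mapHomologicalComplex (ComplexShape.up ℤ)).obj G,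
        Nonempty (Homotopy (β ≫ ((ModSite.restr O W).mapHomologicalComplex (ComplexShape.up ℤ)).map f)
          (((ModSite.restr O W).mapHomologicalComplex (ComplexShape.up ℤ)).map α)) := by
  refine (loc_null (α ≫ mappingCone.inr f) hE a hEa hK V).mono fun W g ⟨H⟩ => ?_
  set R := (ModSite.restr O W).mapHomologicalComplex (ComplexShape.up ℤ)
  have e : R.map (α ≫ mappingCone.inr f) ≫
      (mappingCone.mapHomologicalComplexIso f (ModSite.restr O W)).hom =
        R.map α ≫ mappingCone.inr (R.map f) := by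
    rw [Functor.map_comp, Category.assoc, mappingCone.map_inr]
  exact exists_lift_of_null (R.map α) (R.map f)
    ((Homotopy.ofEq e.symm).trans ((H.compRight _).trans (Homotopy.ofEq zero_comp)))

end

end Groth.Agent.SitePerfLiftLib
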